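import Cfsg.Agent.H187.F4.Defs

/-!
# S3691, row `F₄(q)`: boxes (P1) and (P7) of helper187 (helper376)

* `lpart_le4` : a power of a prime `l ∤ q` dividing `|F₄(q)|` is at most `128 (q + 1)⁴`, and at most `9 (q + 1)⁴` for `l ≠ 2`;
* `num_small` : `p ^ (w + w' + u) Bd < q⁸`.
-/

set_option autoImplicit false

namespace Cfsg.Agent.H376.F4

open Cfsg.Agent.H187.F4

theorem facs (x : ℕ) :
    (x + 1) ^ 24 * (((x + 1) ^ 2 - 1) * ((x + 1) ^ 6 - 1) * ((x + 1) ^ 8 - 1) * ((x + 1) ^ 12 - 1)) =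
      (x + 1) ^ 24 * (x ^ 4 * ((x + 2) ^ 4 * ((x ^ 2 + 3 * x + 3) ^ 2 * ((x ^ 2 + x + 1) ^ 2 * ((x ^ 2 + 2 * x + 2) ^ 2 *
        (((x + 1) ^ 4 + 1) * (x ^ 4 + 4 * x ^ 3 + 5 * x ^ 2 + 2 * x + 1))))))) := by
  have h1 : (x + 1) ^ 2 - 1 = x * (x + 2) := by
    apply Nat.sub_eq_of_eq_add; ring
  have h3 : (x + 1) ^ 6 - 1 = x * (x + 2) * ((x ^ 2 + 3 * x + 3) * (x ^ 2 + x + 1)) := by
    apply Nat.sub_eq_of_eq_add; ring
  have h4 : (x + 1) ^ 8 - 1 = x * (x + 2) * ((x ^ 2 + 2 * x + 2) * ((x + 1) ^ 4 + 1)) := by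
    apply Nat.sub_eq_of_eq_add; ring
  have h5 : (x + 1) ^ 12 - 1 = x * (x + 2) * ((x ^ 2 + 3 * x + 3) * (x ^ 2 + x + 1)) *
      ((x ^ 2 + 2 * x + 2) * (x ^ 4 + 4 * x ^ 3 + 5 * x ^ 2 + 2 * x + 1)) := by
    apply Nat.sub_eq_of_eq_add; ring
  rw [h1, h3, h4, h5]
  ring

theorem lpart_aux {x l k : ℕ} (hl : l.Prime) (hlq : ¬ l ∣ x + 1) (hx : 1 ≤ x)
    (h : l ^ k ∣ x ^ 4 * ((x + 2) ^ 4 * ((x ^ 2 + 3 * x + 3) ^ 2 * ((x ^ 2 + x + 1) ^ 2 * ((x ^ 2 + 2 * x + 2) ^ 2 *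
        (((x + 1) ^ 4 + 1) * (x ^ 4 + 4 * x ^ 3 + 5 * x ^ 2 + 2 * x + 1))))))) :
    l ^ k ≤ 128 * (x + 2) ^ 4 ∧ (l ≠ 2 → l ^ k ≤ 9 * (x + 2) ^ 4) := by
  have cop : ∀ z, ¬ l ∣ z → Nat.Coprime (l ^ k) z := fun z hz => Nat.Coprime.pow_left k ((hl.coprime_iff_not_dvd).2 hz)
  have nd : ∀ a b, ¬ l ∣ a → ¬ l ∣ b → ¬ l ∣ a * b := fun a b ha hb h => (hl.dvd_mul.1 h).elim ha hb
  have ndp : ∀ a n, ¬ l ∣ a → ¬ l ∣ a ^ n := fun a n ha h => ha (hl.dvd_of_dvd_pow h)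
  have fin : ∀ X Y : ℕ, 0 < X → ¬ l ∣ Y → l ^ k ∣ X * Y → X ≤ 9 * (x + 2) ^ 4 →
      l ^ k ≤ 128 * (x + 2) ^ 4 ∧ (l ≠ 2 → l ^ k ≤ 9 * (x + 2) ^ 4) := by
    intro X Y h1 h2 h3 h4
    have h5 := (Nat.le_of_dvd h1 ((cop Y h2).dvd_of_dvd_mul_right h3)).trans h4
    exact ⟨by omega, fun _ => h5⟩
  by_cases hl2 : l = 2
  · subst hl2
    have hxe : Even x := by
      rcases Nat.even_or_odd x with h | h
      · exact h
      · exact absurd (even_iff_two_dvd.1 (h.add_odd odd_one)) hlq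
    obtain ⟨t, ht⟩ := hxe
    obtain rfl : x = 2 * t := by omega
    refine ⟨?_, fun h => absurd rfl h⟩
    have hC : ¬ 2 ∣ (2 * t) ^ 2 + 3 * (2 * t) + 3 := by
      rintro ⟨c, hc⟩
      have : (2 * t) ^ 2 = 2 * (2 * t ^ 2) := by ring
      omega
    have hD : ¬ 2 ∣ (2 * t) ^ 2 + 2 * t + 1 := by
      rintro ⟨c, hc⟩
      have : (2 * t) ^ 2 = 2 * (2 * t ^ 2) := by ring
      omega
    have hE : ¬ 2 ∣ 2 * t ^ 2 + 2 * t + 1 := by
      rintro ⟨c, hc⟩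
      omega
    have hF : ¬ 2 ∣ 8 * t ^ 4 + 16 * t ^ 3 + 12 * t ^ 2 + 4 * t + 1 := by
      rintro ⟨c, hc⟩
      omega
    have hG : ¬ 2 ∣ (2 * t) ^ 4 + 4 * (2 * t) ^ 3 + 5 * (2 * t) ^ 2 + 2 * (2 * t) + 1 := by
      rintro ⟨c, hc⟩
      have h1 : (2 * t) ^ 4 + 4 * (2 * t) ^ 3 + 5 * (2 * t) ^ 2 + 2 * (2 * t) + 1 =
        2 * (8 * t ^ 4 + 16 * t ^ 3 + 10 * t ^ 2 + 2 * t) + 1 := by ring
      omega
    have h1 : 2 ^ k ∣ (2048 * (t ^ 4 * (t + 1) ^ 4)) * (((2 * t) ^ 2 + 3 * (2 * t) + 3) ^ 2 *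
        (((2 * t) ^ 2 + 2 * t + 1) ^ 2 * ((2 * t ^ 2 + 2 * t + 1) ^ 2 * ((8 * t ^ 4 + 16 * t ^ 3 + 12 * t ^ 2 + 4 * t + 1) *
          ((2 * t) ^ 4 + 4 * (2 * t) ^ 3 + 5 * (2 * t) ^ 2 + 2 * (2 * t) + 1))))) := by
      refine h.trans (dvd_of_eq ?_)
      ring
    have h2 := (cop _ (nd _ _ (ndp _ _ hC) (nd _ _ (ndp _ _ hD) (nd _ _ (ndp _ _ hE) (nd _ _ hF hG))))).dvd_of_dvd_mul_right h1
    rcases Nat.even_or_odd t with ht | ht
    · have h6 : ¬ 2 ∣ t + 1 := by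
        obtain ⟨s, hs⟩ := ht
        omega
      have h7 : 2 ^ k ∣ (2048 * t ^ 4) * (t + 1) ^ 4 := by rw [mul_assoc]; exact h2
      have h8 := (cop _ (ndp _ 4 h6)).dvd_of_dvd_mul_right h7
      have ht0 : 0 < t := by omega
      refine (Nat.le_of_dvd (by positivity) h8).trans ?_
      calc 2048 * t ^ 4 = 128 * (2 * t) ^ 4 := by ring
        _ ≤ 128 * (2 * t + 2) ^ 4 := Nat.mul_le_mul_left _ (Nat.pow_le_pow_left (by omega) 4)
    · have h6 : ¬ 2 ∣ t := by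
        obtain ⟨s, hs⟩ := ht
        omega
      have h7 : 2 ^ k ∣ t ^ 4 * (2048 * (t + 1) ^ 4) := by
        refine h2.trans (dvd_of_eq ?_)
        ring
      have h8 := (cop _ (ndp _ 4 h6)).dvd_of_dvd_mul_left h7
      refine (Nat.le_of_dvd (by positivity) h8).trans ?_
      exact le_of_eq (by ring)
  by_cases hl3 : l = 3
  · subst hl3
    have hx3 : x % 3 = 0 ∨ x % 3 = 1 := by
      have : x % 3 ≠ 2 := fun h => hlq (by omega)
      omega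
    rcases hx3 with h6 | h6
    · obtain ⟨a, rfl⟩ : ∃ a, x = 3 * a := ⟨x / 3, by omega⟩
      have eB : ¬ 3 ∣ 3 * a + 2 := by omega
      have eC : ¬ 3 ∣ 3 * a ^ 2 + 3 * a + 1 := by
        rintro ⟨c, hc⟩
        omega
      have eD : ¬ 3 ∣ (3 * a) ^ 2 + 3 * a + 1 := by
        rintro ⟨c, hc⟩
        have : (3 * a) ^ 2 = 3 * (3 * a ^ 2) := by ring
        omega
      have eE : ¬ 3 ∣ (3 * a) ^ 2 + 2 * (3 * a) + 2 := by
        rintro ⟨c, hc⟩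
        have : (3 * a) ^ 2 = 3 * (3 * a ^ 2) := by ring
        omega
      have eF : ¬ 3 ∣ (3 * a + 1) ^ 4 + 1 := by
        rintro ⟨c, hc⟩
        have : (3 * a + 1) ^ 4 = 3 * (27 * a ^ 4 + 36 * a ^ 3 + 18 * a ^ 2 + 4 * a) + 1 := by ring
        omega
      have eG : ¬ 3 ∣ (3 * a) ^ 4 + 4 * (3 * a) ^ 3 + 5 * (3 * a) ^ 2 + 2 * (3 * a) + 1 := by
        rintro ⟨c, hc⟩
        have h1 : (3 * a) ^ 4 + 4 * (3 * a) ^ 3 + 5 * (3 * a) ^ 2 + 2 * (3 * a) + 1 =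
          3 * (27 * a ^ 4 + 36 * a ^ 3 + 15 * a ^ 2 + 2 * a) + 1 := by ring
        omega
      refine fin (9 * (3 * a) ^ 4) _ (by positivity)
        (nd _ _ (ndp _ 4 eB) (nd _ _ (ndp _ 2 eC) (nd _ _ (ndp _ 2 eD) (nd _ _ (ndp _ 2 eE) (nd _ _ eF eG)))))
        (h.trans (dvd_of_eq (by ring))) ?_
      exact Nat.mul_le_mul_left _ (Nat.pow_le_pow_left (by omega) 4)
    · obtain ⟨a, rfl⟩ : ∃ a, x = 3 * a + 1 := ⟨x / 3, by omega⟩
      have eA : ¬ 3 ∣ 3 * a + 1 := by omega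
      have eC : ¬ 3 ∣ (3 * a + 1) ^ 2 + 3 * (3 * a + 1) + 3 := by
        rintro ⟨c, hc⟩
        have : (3 * a + 1) ^ 2 = 3 * (3 * a ^ 2 + 2 * a) + 1 := by ring
        omega
      have eD : ¬ 3 ∣ 3 * a ^ 2 + 3 * a + 1 := by
        rintro ⟨c, hc⟩
        omega
      have eE : ¬ 3 ∣ (3 * a + 1) ^ 2 + 2 * (3 * a + 1) + 2 := by
        rintro ⟨c, hc⟩
        have : (3 * a + 1) ^ 2 = 3 * (3 * a ^ 2 + 2 * a) + 1 := by ring
        omega
      have eF : ¬ 3 ∣ (3 * a + 1 + 1) ^ 4 + 1 := by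
        rintro ⟨c, hc⟩
        have : (3 * a + 1 + 1) ^ 4 = 3 * (27 * a ^ 4 + 72 * a ^ 3 + 72 * a ^ 2 + 32 * a + 5) + 1 := by ring
        omega
      have eG : ¬ 3 ∣ (3 * a + 1) ^ 4 + 4 * (3 * a + 1) ^ 3 + 5 * (3 * a + 1) ^ 2 + 2 * (3 * a + 1) + 1 := by
        rintro ⟨c, hc⟩
        have h1 : (3 * a + 1) ^ 4 + 4 * (3 * a + 1) ^ 3 + 5 * (3 * a + 1) ^ 2 + 2 * (3 * a + 1) + 1 =
          3 * (27 * a ^ 4 + 72 * a ^ 3 + 69 * a ^ 2 + 28 * a + 4) + 1 := by ring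
        omega
      refine fin (9 * (3 * a + 1 + 2) ^ 4) _ (by positivity)
        (nd _ _ (ndp _ 4 eA) (nd _ _ (ndp _ 2 eC) (nd _ _ (ndp _ 2 eD) (nd _ _ (ndp _ 2 eE) (nd _ _ eF eG)))))
        (h.trans (dvd_of_eq (by ring))) le_rfl
  have : Fact l.Prime := ⟨hl⟩
  have key : ∀ z : ℕ, l ∣ z ↔ (z : ZMod l) = 0 := fun z => (ZMod.natCast_eq_zero_iff z l).symm
  have n2 : (2 : ZMod l) ≠ 0 := fun h => hl2 ((Nat.prime_dvd_prime_iff_eq hl Nat.prime_two).1 ((key 2).2 (by exact_mod_cast h)))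
  have n3 : (3 : ZMod l) ≠ 0 := fun h => hl3 ((Nat.prime_dvd_prime_iff_eq hl Nat.prime_three).1 ((key 3).2 (by exact_mod_cast h)))
  have nq : ((x : ZMod l) + 1) ≠ 0 := fun h => hlq ((key _).2 (by push_cast; exact h))
  obtain ⟨y, hy⟩ : ∃ y : ZMod l, (x : ZMod l) = y - 1 := ⟨x + 1, by ring⟩
  rw [hy, sub_add_cancel] at nq
  have kA : l ∣ x ↔ y - 1 = 0 := by rw [key, hy]
  have kB : l ∣ x + 2 ↔ y + 1 = 0 := by
    rw [key]; push_cast; rw [hy, show y - 1 + 2 = y + 1 by ring]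
  have kC : l ∣ x ^ 2 + 3 * x + 3 ↔ y ^ 2 + y + 1 = 0 := by
    rw [key]; push_cast; rw [hy, show (y - 1) ^ 2 + 3 * (y - 1) + 3 = y ^ 2 + y + 1 by ring]
  have kD : l ∣ x ^ 2 + x + 1 ↔ y ^ 2 - y + 1 = 0 := by
    rw [key]; push_cast; rw [hy, show (y - 1) ^ 2 + (y - 1) + 1 = y ^ 2 - y + 1 by ring]
  have kE : l ∣ x ^ 2 + 2 * x + 2 ↔ y ^ 2 + 1 = 0 := by
    rw [key]; push_cast; rw [hy, show (y - 1) ^ 2 + 2 * (y - 1) + 2 = y ^ 2 + 1 by ring]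
  have kF : l ∣ (x + 1) ^ 4 + 1 ↔ y ^ 4 + 1 = 0 := by
    rw [key]; push_cast; rw [hy, show (y - 1 + 1) ^ 4 + 1 = y ^ 4 + 1 by ring]
  have kG : l ∣ x ^ 4 + 4 * x ^ 3 + 5 * x ^ 2 + 2 * x + 1 ↔ y ^ 4 - y ^ 2 + 1 = 0 := by
    rw [key]; push_cast
    rw [hy, show (y - 1) ^ 4 + 4 * (y - 1) ^ 3 + 5 * (y - 1) ^ 2 + 2 * (y - 1) + 1 = y ^ 4 - y ^ 2 + 1 by ring]
  have b2 : ∀ z : ZMod l, z = 2 → z ≠ 0 := fun z h1 h2 => n2 (h1 ▸ h2)
  have one0 : (1 : ZMod l) ≠ 0 := one_ne_zero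
  have hy1 := fun n => pow_ne_zero n nq
  by_cases hA : l ∣ x
  · have h1 := kA.1 hA
    have hy' : y = 1 := sub_eq_zero.1 h1
    have nB : ¬ l ∣ x + 2 := fun h => n2 (by rw [kB, hy'] at h; linear_combination h)
    have nC : ¬ l ∣ x ^ 2 + 3 * x + 3 := fun h => n3 (by rw [kC, hy'] at h; linear_combination h)
    have nD : ¬ l ∣ x ^ 2 + x + 1 := fun h => one0 (by rw [kD, hy'] at h; linear_combination h)
    have nE : ¬ l ∣ x ^ 2 + 2 * x + 2 := fun h => n2 (by rw [kE, hy'] at h; linear_combination h)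
    have nF : ¬ l ∣ (x + 1) ^ 4 + 1 := fun h => n2 (by rw [kF, hy'] at h; linear_combination h)
    have nG : ¬ l ∣ x ^ 4 + 4 * x ^ 3 + 5 * x ^ 2 + 2 * x + 1 := fun h => one0 (by rw [kG, hy'] at h; linear_combination h)
    refine fin (x ^ 4) _ (by positivity)
      (nd _ _ (ndp _ 4 nB) (nd _ _ (ndp _ 2 nC) (nd _ _ (ndp _ 2 nD) (nd _ _ (ndp _ 2 nE) (nd _ _ nF nG))))) h ?_
    calc x ^ 4 ≤ (x + 2) ^ 4 := Nat.pow_le_pow_left (by omega) 4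
      _ ≤ 9 * (x + 2) ^ 4 := by omega
  by_cases hB : l ∣ x + 2
  · have h1 := kB.1 hB
    have hy' : y = -1 := eq_neg_of_add_eq_zero_left h1
    have nC : ¬ l ∣ x ^ 2 + 3 * x + 3 := fun h => one0 (by rw [kC, hy'] at h; linear_combination h)
    have nD : ¬ l ∣ x ^ 2 + x + 1 := fun h => n3 (by rw [kD, hy'] at h; linear_combination h)
    have nE : ¬ l ∣ x ^ 2 + 2 * x + 2 := fun h => n2 (by rw [kE, hy'] at h; linear_combination h)
    have nF : ¬ l ∣ (x + 1) ^ 4 + 1 := fun h => n2 (by rw [kF, hy'] at h; linear_combination h)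
    have nG : ¬ l ∣ x ^ 4 + 4 * x ^ 3 + 5 * x ^ 2 + 2 * x + 1 := fun h => one0 (by rw [kG, hy'] at h; linear_combination h)
    refine fin ((x + 2) ^ 4) _ (by positivity)
      (nd _ _ (ndp _ 4 hA) (nd _ _ (ndp _ 2 nC) (nd _ _ (ndp _ 2 nD) (nd _ _ (ndp _ 2 nE) (nd _ _ nF nG)))))
        (h.trans (dvd_of_eq (by ring))) ?_
    omega
  have sq4 : (x + 2) ^ 4 = ((x + 2) ^ 2) ^ 2 := by ring
  by_cases hC : l ∣ x ^ 2 + 3 * x + 3
  · have h1 := kC.1 hC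
    have nD : ¬ l ∣ x ^ 2 + x + 1 := fun h => by
      have h2 := kD.1 h
      exact (mul_ne_zero n2 nq) (by linear_combination h1 - h2)
    have nE : ¬ l ∣ x ^ 2 + 2 * x + 2 := fun h => by
      have h2 := kE.1 h
      exact nq (by linear_combination h1 - h2)
    have nF : ¬ l ∣ (x + 1) ^ 4 + 1 := fun h => by
      have h2 := kF.1 h
      exact (hy1 2) (by linear_combination (1 + (y ^ 2 - y)) * h1 - h2)
    have nG : ¬ l ∣ x ^ 4 + 4 * x ^ 3 + 5 * x ^ 2 + 2 * x + 1 := fun h => by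
      have h2 := kG.1 h
      exact (mul_ne_zero n2 (hy1 2)) (by linear_combination (1 + (y ^ 2 - y)) * h1 - h2)
    refine fin ((x ^ 2 + 3 * x + 3) ^ 2) _ (by positivity)
      (nd _ _ (ndp _ 4 hA) (nd _ _ (ndp _ 4 hB) (nd _ _ (ndp _ 2 nD) (nd _ _ (ndp _ 2 nE) (nd _ _ nF nG)))))
        (h.trans (dvd_of_eq (by ring))) ?_
    rw [sq4]
    have h5 : x ^ 2 + 3 * x + 3 ≤ (x + 2) ^ 2 := by nlinarith
    have h6 := Nat.pow_le_pow_left h5 2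
    omega
  by_cases hD : l ∣ x ^ 2 + x + 1
  · have h1 := kD.1 hD
    have nE : ¬ l ∣ x ^ 2 + 2 * x + 2 := fun h => by
      have h2 := kE.1 h
      exact nq (by linear_combination h2 - h1)
    have nF : ¬ l ∣ (x + 1) ^ 4 + 1 := fun h => by
      have h2 := kF.1 h
      exact (hy1 2) (by linear_combination (1 + (y ^ 2 + y)) * h1 - h2)
    have nG : ¬ l ∣ x ^ 4 + 4 * x ^ 3 + 5 * x ^ 2 + 2 * x + 1 := fun h => by
      have h2 := kG.1 h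
      exact (mul_ne_zero n2 (hy1 2)) (by linear_combination (1 + (y ^ 2 + y)) * h1 - h2)
    refine fin ((x ^ 2 + x + 1) ^ 2) _ (by positivity)
      (nd _ _ (ndp _ 4 hA) (nd _ _ (ndp _ 4 hB) (nd _ _ (ndp _ 2 hC) (nd _ _ (ndp _ 2 nE) (nd _ _ nF nG)))))
        (h.trans (dvd_of_eq (by ring))) ?_
    rw [sq4]
    have h5 : x ^ 2 + x + 1 ≤ (x + 2) ^ 2 := by nlinarith
    have h6 := Nat.pow_le_pow_left h5 2
    omega
  by_cases hE : l ∣ x ^ 2 + 2 * x + 2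
  · have h1 := kE.1 hE
    have nF : ¬ l ∣ (x + 1) ^ 4 + 1 := fun h => by
      have h2 := kF.1 h
      exact n2 (by linear_combination h2 - (y ^ 2 - 1) * h1)
    have nG : ¬ l ∣ x ^ 4 + 4 * x ^ 3 + 5 * x ^ 2 + 2 * x + 1 := fun h => by
      have h2 := kG.1 h
      exact n3 (by linear_combination h2 - (y ^ 2 - 2) * h1)
    refine fin ((x ^ 2 + 2 * x + 2) ^ 2) _ (by positivity)
      (nd _ _ (ndp _ 4 hA) (nd _ _ (ndp _ 4 hB) (nd _ _ (ndp _ 2 hC) (nd _ _ (ndp _ 2 hD) (nd _ _ nF nG)))))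
        (h.trans (dvd_of_eq (by ring))) ?_
    rw [sq4]
    have h5 : x ^ 2 + 2 * x + 2 ≤ (x + 2) ^ 2 := by nlinarith
    have h6 := Nat.pow_le_pow_left h5 2
    omega
  by_cases hF : l ∣ (x + 1) ^ 4 + 1
  · have h1 := kF.1 hF
    have nG : ¬ l ∣ x ^ 4 + 4 * x ^ 3 + 5 * x ^ 2 + 2 * x + 1 := fun h => by
      have h2 := kG.1 h
      exact (hy1 2) (by linear_combination h1 - h2)
    refine fin ((x + 1) ^ 4 + 1) _ (by positivity)
      (nd _ _ (ndp _ 4 hA) (nd _ _ (ndp _ 4 hB) (nd _ _ (ndp _ 2 hC) (nd _ _ (ndp _ 2 hD) (nd _ _ (ndp _ 2 hE) nG)))))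
        (h.trans (dvd_of_eq (by ring))) ?_
    have h6 : (x + 1) ^ 4 < (x + 2) ^ 4 := Nat.pow_lt_pow_left (by omega) (by norm_num)
    omega
  · refine fin (x ^ 4 + 4 * x ^ 3 + 5 * x ^ 2 + 2 * x + 1) _ (by positivity)
      (nd _ _ (ndp _ 4 hA) (nd _ _ (ndp _ 4 hB) (nd _ _ (ndp _ 2 hC) (nd _ _ (ndp _ 2 hD) (nd _ _ (ndp _ 2 hE) hF)))))
        (h.trans (dvd_of_eq (by ring))) ?_
    have h7 : x ^ 4 + 4 * x ^ 3 + 5 * x ^ 2 + 2 * x + 1 ≤ (x + 2) ^ 4 := by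
      have : (x + 2) ^ 4 = (x ^ 4 + 4 * x ^ 3 + 5 * x ^ 2 + 2 * x + 1) + (4 * x ^ 3 + 19 * x ^ 2 + 30 * x + 15) := by ring
      omega
    omega

/-- (P1) -/
theorem lpart_le4 {q l k : ℕ} (hl : l.Prime) (hlq : ¬ l ∣ q) (hq : 2 ≤ q)
    (h : l ^ k ∣ q ^ 24 * ((q ^ 2 - 1) * (q ^ 6 - 1) * (q ^ 8 - 1) * (q ^ 12 - 1))) :
    l ^ k ≤ 128 * (q + 1) ^ 4 ∧ (l ≠ 2 → l ^ k ≤ 9 * (q + 1) ^ 4) := by
  obtain ⟨x, rfl⟩ : ∃ x, q = x + 1 := ⟨q - 1, by omega⟩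
  rw [facs] at h
  have hc : Nat.Coprime (l ^ k) ((x + 1) ^ 24) :=
    Nat.Coprime.pow_left k (Nat.Coprime.pow_right 24 ((hl.coprime_iff_not_dvd).2 hlq))
  exact lpart_aux hl hlq (by omega) (hc.dvd_of_dvd_mul_left h)

/-- `p ^ a ∣ m` with `m` small bounds `a` -/
theorem exp_le {p a m n : ℕ} (hp : 1 < p) (hm : 0 < m) (h : p ^ a ∣ m) (hn : m < p ^ (n + 1)) : a ≤ n := by
  by_contra hcon
  have h1 : p ^ (n + 1) ≤ p ^ a := Nat.pow_le_pow_right (by omega) (by omega)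
  have h2 := Nat.le_of_dvd hm h
  omega

theorem big4 {f : ℕ} (h : 4 ≤ f) : 1920 * f < (2 ^ f) ^ 4 := by
  induction f, h using Nat.le_induction with
  | base => norm_num
  | succ k hk ih =>
    have : (2 ^ (k + 1)) ^ 4 = 16 * (2 ^ k) ^ 4 := by ring
    omega

theorem big3 {f : ℕ} (h : 2 ≤ f) : 1764 * f < (3 ^ f) ^ 4 := by
  induction f, h using Nat.le_induction with
  | base => norm_num
  | succ k hk ih =>
    have : (3 ^ (k + 1)) ^ 4 = 81 * (3 ^ k) ^ 4 := by ring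
    omega

theorem big5 {p f : ℕ} (hp : 5 ≤ p) (h : 1 ≤ f) : 266 * f < (p ^ f) ^ 4 := by
  have h1 : 266 * f < (5 ^ f) ^ 4 := by
    induction f, h using Nat.le_induction with
    | base => norm_num
    | succ k hk ih =>
      have : (5 ^ (k + 1)) ^ 4 = 625 * (5 ^ k) ^ 4 := by ring
      omega
  exact h1.trans_le (Nat.pow_le_pow_left (Nat.pow_le_pow_left hp f) 4)

/-- (P7) the numbers -/
theorem num_small {p f w w' u : ℕ} (hp : p.Prime) (hf : 1 ≤ f) (h5 : 5 ≤ p ^ f) (hw : (p ^ w ∣ 12 ∧ p ^ w' ∣ 8) ∨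
    (p ^ w ∣ 8 ∧ p ^ w' ∣ 8) ∨ (p ^ w ∣ 12 ∧ p ^ w' ∣ 12)) (hu : p ^ u ∣ 2 * f) :
    p ^ (w + w' + u) * Bd p (p ^ f) < (p ^ f) ^ 8 ∧ w + w' + u < 4 * f := by
  have p1 : 1 < p := hp.one_lt
  have key : ∀ c B q : ℕ, B < q ^ 4 * c → c * p ^ (w + w' + u) ≤ q ^ 4 → p ^ (w + w' + u) * B < q ^ 8 := by
    intro c B q h1 h2
    have h3 : 0 < p ^ (w + w' + u) := pow_pos hp.pos _
    calc p ^ (w + w' + u) * B < p ^ (w + w' + u) * (q ^ 4 * c) := Nat.mul_lt_mul_of_pos_left h1 h3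
      _ = (c * p ^ (w + w' + u)) * q ^ 4 := by ring
      _ ≤ q ^ 4 * q ^ 4 := Nat.mul_le_mul_right _ h2
      _ = q ^ 8 := by ring
  rcases eq_or_ne p 2 with h2 | h2
  · subst h2
    have hf3 : 3 ≤ f := by
      by_contra hcon
      have : 2 ^ f ≤ 2 ^ 2 := Nat.pow_le_pow_right (by norm_num) (by omega)
      omega
    have hww : w + w' ≤ 6 := by
      have e12 : ∀ a, 2 ^ a ∣ 12 → a ≤ 3 := fun a h => exp_le (by norm_num) (by norm_num) h (by norm_num)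
      have e8 : ∀ a, 2 ^ a ∣ 8 → a ≤ 3 := fun a h => exp_le (by norm_num) (by norm_num) h (by norm_num)
      rcases hw with ⟨h, h'⟩ | ⟨h, h'⟩ | ⟨h, h'⟩
      · have := e12 _ h; have := e8 _ h'; omega
      · have := e8 _ h; have := e8 _ h'; omega
      · have := e12 _ h; have := e12 _ h'; omega
    have hu' : 2 ^ u ≤ 2 * f := Nat.le_of_dvd (by omega) hu
    have hBd : Bd 2 (2 ^ f) = 9 * (2 ^ f + 1) ^ 4 + 1 := by simp [Bd]
    rw [hBd]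
    have h3 : 2 ^ (w + w' + u) ≤ 64 * 2 ^ u := by
      rw [pow_add]
      exact Nat.mul_le_mul_right _ ((Nat.pow_le_pow_right (by norm_num) hww).trans (by norm_num))
    rcases Nat.lt_or_ge f 4 with h4 | h4
    · obtain rfl : f = 3 := by omega
      have hu1 : u ≤ 1 := by
        by_contra hcon
        have h6 : 2 ^ 2 ∣ 2 * 3 := (pow_dvd_pow 2 (by omega)).trans hu
        norm_num at h6
      have h7 : 2 ^ u ≤ 2 := (Nat.pow_le_pow_right (by norm_num) hu1).trans (by norm_num)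
      refine ⟨?_, by omega⟩
      calc 2 ^ (w + w' + u) * (9 * (2 ^ 3 + 1) ^ 4 + 1) ≤ 128 * (9 * (2 ^ 3 + 1) ^ 4 + 1) :=
            Nat.mul_le_mul_right _ (by omega)
        _ < (2 ^ 3) ^ 8 := by norm_num
    · have hq : 16 ≤ 2 ^ f := by
        calc 16 = 2 ^ 4 := by norm_num
          _ ≤ 2 ^ f := Nat.pow_le_pow_right (by norm_num) h4
      have hb := big4 h4
      have huf : u < f := by
        have h8 : 2 * f < 2 ^ f := by
          clear hu hu' h3 hBd hq hb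
          induction f, h4 using Nat.le_induction with
          | base => norm_num
          | succ k hk ih =>
            have h9 := ih (by omega) (by
              calc 5 ≤ 2 ^ 4 := by norm_num
                _ ≤ 2 ^ k := Nat.pow_le_pow_right (by norm_num) hk) (by omega)
            rw [pow_succ]; omega
        exact (Nat.pow_lt_pow_iff_right (by norm_num : 1 < 2)).1 (hu'.trans_lt h8)
      refine ⟨?_, by omega⟩
      refine key 15 _ _ ?_ (by omega)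
      generalize 2 ^ f = q at hq
      have h10 : (q + 1) ^ 4 * 65536 ≤ q ^ 4 * 83521 := by
        have h11 : (q + 1) * 16 ≤ q * 17 := by omega
        calc (q + 1) ^ 4 * 65536 = ((q + 1) * 16) ^ 4 := by ring
          _ ≤ (q * 17) ^ 4 := Nat.pow_le_pow_left h11 4
          _ = q ^ 4 * 83521 := by ring
      have h12 : 16 ^ 4 ≤ q ^ 4 := Nat.pow_le_pow_left hq 4
      omega
  rcases eq_or_ne p 3 with h3 | h3
  · subst h3
    have hf2 : 2 ≤ f := by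
      by_contra hcon
      have : 3 ^ f ≤ 3 ^ 1 := Nat.pow_le_pow_right (by norm_num) (by omega)
      omega
    have hww : w + w' ≤ 2 := by
      have e12 : ∀ a, 3 ^ a ∣ 12 → a ≤ 1 := by
        intro a h
        by_contra hcon
        have h6 : 3 ^ 2 ∣ 12 := (pow_dvd_pow 3 (by omega)).trans h
        norm_num at h6
      have e8 : ∀ a, 3 ^ a ∣ 8 → a ≤ 1 := fun a h => exp_le (by norm_num) (by norm_num) h (by norm_num)
      rcases hw with ⟨h, h'⟩ | ⟨h, h'⟩ | ⟨h, h'⟩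
      · have := e12 _ h; have := e8 _ h'; omega
      · have := e8 _ h; have := e8 _ h'; omega
      · have := e12 _ h; have := e12 _ h'; omega
    have hu' : 3 ^ u ≤ f := by
      refine Nat.le_of_dvd (by omega) ((Nat.Coprime.dvd_mul_left ?_).1 hu)
      exact Nat.Coprime.pow_left u (by norm_num)
    have hBd : Bd 3 (3 ^ f) = 128 * (3 ^ f + 1) ^ 4 + 1 := by simp [Bd]
    rw [hBd]
    have h4 : 3 ^ (w + w' + u) ≤ 9 * 3 ^ u := by
      rw [pow_add]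
      exact Nat.mul_le_mul_right _ ((Nat.pow_le_pow_right (by norm_num) hww).trans (by norm_num))
    have hq : 9 ≤ 3 ^ f := by
      calc 9 = 3 ^ 2 := by norm_num
        _ ≤ 3 ^ f := Nat.pow_le_pow_right (by norm_num) hf2
    have hb := big3 hf2
    have huf : u < f := lt_of_lt_of_le (Nat.lt_pow_self (by norm_num)) hu'
    refine ⟨?_, by omega⟩
    refine key 196 _ _ ?_ (by omega)
    generalize 3 ^ f = q at hq
    have h10 : (q + 1) ^ 4 * 6561 ≤ q ^ 4 * 10000 := by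
      have h11 : (q + 1) * 9 ≤ q * 10 := by omega
      calc (q + 1) ^ 4 * 6561 = ((q + 1) * 9) ^ 4 := by ring
        _ ≤ (q * 10) ^ 4 := Nat.pow_le_pow_left h11 4
        _ = q ^ 4 * 10000 := by ring
    have h12 : 9 ^ 4 ≤ q ^ 4 := Nat.pow_le_pow_left hq 4
    omega
  · have hp5 : 5 ≤ p := by
      have := hp.two_le
      have : p ≠ 4 := by rintro rfl; exact absurd hp (by norm_num)
      omega
    have e12 : ∀ a, p ^ a ∣ 12 → a = 0 := by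
      intro a h
      by_contra hcon
      have h6 : p ∣ 12 := (dvd_pow_self p hcon).trans h
      have h7 : p ∣ 2 ^ 2 * 3 := h6
      rcases hp.dvd_mul.1 h7 with h8 | h8
      · exact h2 ((Nat.prime_dvd_prime_iff_eq hp Nat.prime_two).1 (hp.dvd_of_dvd_pow h8))
      · exact h3 ((Nat.prime_dvd_prime_iff_eq hp Nat.prime_three).1 h8)
    have e8 : ∀ a, p ^ a ∣ 8 → a = 0 := by
      intro a h
      by_contra hcon
      have h6 : p ∣ 2 ^ 3 := (dvd_pow_self p hcon).trans h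
      exact h2 ((Nat.prime_dvd_prime_iff_eq hp Nat.prime_two).1 (hp.dvd_of_dvd_pow h6))
    have hww : w + w' = 0 := by
      rcases hw with ⟨h, h'⟩ | ⟨h, h'⟩ | ⟨h, h'⟩
      · have := e12 _ h; have := e8 _ h'; omega
      · have := e8 _ h; have := e8 _ h'; omega
      · have := e12 _ h; have := e12 _ h'; omega
    have hu' : p ^ u ≤ f := by
      refine Nat.le_of_dvd (by omega) ((Nat.Coprime.dvd_mul_left ?_).1 hu)
      refine Nat.Coprime.pow_left u ((hp.coprime_iff_not_dvd).2 fun h => h2 ?_)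
      exact (Nat.prime_dvd_prime_iff_eq hp Nat.prime_two).1 h
    have hBd : Bd p (p ^ f) = 128 * (p ^ f + 1) ^ 4 + 1 := by simp [Bd, h2]
    rw [hBd]
    have hb := big5 hp5 hf
    have huf : u < f := lt_of_lt_of_le (Nat.lt_pow_self p1) hu'
    refine ⟨?_, by omega⟩
    refine key 266 _ _ ?_ ?_
    · generalize p ^ f = q at h5
      have h10 : (q + 1) ^ 4 * 625 ≤ q ^ 4 * 1296 := by
        have h11 : (q + 1) * 5 ≤ q * 6 := by omega
        calc (q + 1) ^ 4 * 625 = ((q + 1) * 5) ^ 4 := by ring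
          _ ≤ (q * 6) ^ 4 := Nat.pow_le_pow_left h11 4
          _ = q ^ 4 * 1296 := by ring
      have h12 : 5 ^ 4 ≤ q ^ 4 := Nat.pow_le_pow_left h5 4
      omega
    · rw [hww, zero_add]
      have : 266 * p ^ u ≤ 266 * f := Nat.mul_le_mul_left _ hu'
      omega

end Cfsg.Agent.H376.F4
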